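/-
helper49 library (S4705, module [VALMIX], core): the value of `ζ` at `u x` (`u` an involution, `x` a noncentral `p`-regular
element of odd order commuting with `u`) is `0`.  The two external inputs ([CENTMUL], [ALTSUM2]) are hypotheses here.
-/
import Mathlib
import Cfsg.Prelude.Def_Characters
import Cfsg.Prelude.Def_Blocks
import Cfsg.Agent.Lib.Helper17.PM2.Defs

set_option autoImplicit false

open Cfsg Cfsg.Agent.Lib.Helper17.PM2
open scoped ComplexConjugate

universe u

namespace Cfsg.Agent.Lib.Helper49.S4705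

theorem sum_range_shift (F : ℕ → ℝ) (n : ℕ) (hF : ∀ a, F (a + n) = F a) :
    ∑ a ∈ Finset.range n, F (a + 1) = ∑ a ∈ Finset.range n, F a := by
  have h1 := Finset.sum_range_succ' F n
  have h2 := Finset.sum_range_succ F n
  have h3 : F n = F 0 := by simpa using hF 0
  linarith

theorem mem_of_pow_mem_of_coprime {G : Type u} [Group G] {H : Subgroup G} {y : G} {k : ℕ}
    (hk : k.Coprime (orderOf y)) (h : y ^ k ∈ H) : y ∈ H := by
  obtain ⟨m, hm⟩ := exists_pow_eq_self_of_coprime hk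
  rw [← hm]
  exact H.pow_mem h m

/-- a nonnegative real with `b ^ (2 ^ m) = b`, `m ≥ 1`, is `0` or `1` -/
theorem eq_zero_or_one_of_pow_eq {b : ℝ} (hb : 0 ≤ b) {m : ℕ} (hm : 1 ≤ m) (h : b ^ (2 ^ m) = b) :
    b = 0 ∨ b = 1 := by
  by_cases h0 : b = 0
  · exact Or.inl h0
  · right
    have hN : 2 ^ m = (2 ^ m - 1) + 1 := by
      have : 1 ≤ 2 ^ m := Nat.one_le_two_pow
      omega
    have h1 : b ^ (2 ^ m - 1) * b = b := by
      rw [← pow_succ, ← hN]; exact h
    have h2 : b ^ (2 ^ m - 1) = 1 := by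
      have : b ^ (2 ^ m - 1) * b = 1 * b := by rw [one_mul]; exact h1
      exact mul_right_cancel₀ h0 this
    have hne : 2 ^ m - 1 ≠ 0 := by
      have : 2 ^ 1 ≤ 2 ^ m := Nat.pow_le_pow_right (by norm_num) hm
      omega
    exact (pow_eq_one_iff_of_nonneg hb hne).1 h2

variable {G : Type u} [Group G] [Fintype G] {p : ℕ} (S : Setting G p)

theorem val_mix_of
    (hcm : ∀ z ∈ Subgroup.center G, ∀ g : G, ‖S.ζ (g * z)‖ = ‖S.ζ g‖)
    (halt : ∀ (u x : G), u ^ 2 = 1 → Commute u x → ∀ n : ℕ, Odd n → x ^ n = 1 →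
      ∑ a ∈ Finset.range n, ‖S.ζ (u * x ^ a)‖ ^ 2 ≤ ∑ a ∈ Finset.range n, ‖S.ζ (x ^ a)‖ ^ 2)
    (hR : ∀ g : G, ¬ p ∣ orderOf g → S.ζ g ^ 2 - S.ζ (g ^ 2) = ((p : ℂ) - 3) * S.ζ (g ^ S.k))
    (hinv : ∀ t : G, orderOf t = 2 → S.ζ t = -1)
    (hvalodd : ∀ g : G, Odd (orderOf g) → ¬ p ∣ orderOf g → g ∉ Subgroup.center G → S.ζ g = 0)
    (u x : G) (hu : orderOf u = 2) (hx : Odd (orderOf x)) (hux : Commute u x)
    (hreg : ¬ p ∣ orderOf x) (hnc : x ∉ Subgroup.center G) : S.ζ (u * x) = 0 := by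
  classical
  have hpp : p.Prime := S.hp
  have hp5 : 5 < p := S.h5
  have hp5R : (5 : ℝ) < (p : ℝ) := by exact_mod_cast hp5
  set q : ℝ := (p : ℝ) - 3 with hq
  have hq0 : 0 < q := by rw [hq]; linarith
  have hqC : ((p : ℂ) - 3) = ((q : ℝ) : ℂ) := by rw [hq]; push_cast; ring
  have hqnorm : ‖((p : ℂ) - 3)‖ = q := by
    rw [hqC, Complex.norm_real, Real.norm_of_nonneg hq0.le]
  set n := orderOf x with hn
  have hnpos : 0 < n := orderOf_pos x
  have hu2 : u ^ 2 = 1 := by rw [← hu]; exact pow_orderOf_eq_one u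
  have hxn : x ^ n = 1 := pow_orderOf_eq_one x
  -- powers of `x`
  have hodd_pow : ∀ a : ℕ, Odd (orderOf (x ^ a)) := fun a => Odd.of_dvd_nat hx (orderOf_pow_dvd a)
  have hreg_pow : ∀ a : ℕ, ¬ p ∣ orderOf (x ^ a) := fun a h => hreg (dvd_trans h (orderOf_pow_dvd a))
  have hzero : ∀ a : ℕ, x ^ a ∉ Subgroup.center G → S.ζ (x ^ a) = 0 :=
    fun a h => hvalodd _ (hodd_pow a) (hreg_pow a) h
  have hcop2 : ∀ y : G, Odd (orderOf y) → y ^ 2 ∈ Subgroup.center G → y ∈ Subgroup.center G := by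
    intro y hy h
    exact mem_of_pow_mem_of_coprime (Nat.coprime_two_left.mpr hy) h
  have hcom : ∀ a : ℕ, Commute u (x ^ a) := fun a => hux.pow_right a
  have hsq : ∀ a : ℕ, (u * x ^ a) ^ 2 = (x ^ a) ^ 2 := by
    intro a
    rw [(hcom a).mul_pow, hu2, one_mul]
  have hk : ∀ a : ℕ, (u * x ^ a) ^ S.k = u * (x ^ a) ^ 2 :=
    fun a => S.hk2 u (x ^ a) (hcom a) ⟨1, by rw [hu, pow_one]⟩ (hodd_pow a)
  have hpreg : ∀ a : ℕ, ¬ p ∣ orderOf (u * x ^ a) := by
    intro a hdvd
    have h1 : (u * x ^ a) ^ (2 * n) = 1 := by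
      rw [pow_mul, hsq]
      have h3 : ((x ^ a) ^ 2) ^ n = (x ^ n) ^ (a * 2) := by
        rw [← pow_mul, ← pow_mul, ← pow_mul]
        congr 1
        ring
      rw [h3, hxn, one_pow]
    have h2 : p ∣ 2 * n := dvd_trans hdvd (orderOf_dvd_of_pow_eq_one h1)
    rcases (Nat.Prime.dvd_mul hpp).1 h2 with h | h
    · have := Nat.le_of_dvd (by norm_num) h
      omega
    · exact hreg h
  -- the key relation
  have hkey : ∀ a : ℕ, x ^ a ∉ Subgroup.center G →
      ‖S.ζ (u * x ^ a)‖ ^ 2 = q * ‖S.ζ (u * (x ^ a) ^ 2)‖ := by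
    intro a ha
    have h1 := hR (u * x ^ a) (hpreg a)
    rw [hsq, hk] at h1
    have h2 : (x ^ a) ^ 2 ∉ Subgroup.center G := fun h => ha (hcop2 _ (hodd_pow a) h)
    have h3 : S.ζ ((x ^ a) ^ 2) = 0 := by
      rw [← pow_mul]
      apply hzero
      rw [pow_mul]; exact h2
    rw [h3, sub_zero] at h1
    have h4 := congrArg norm h1
    rw [norm_pow, norm_mul, hqnorm] at h4
    exact h4
  -- the sequence `c j = ‖ζ(u x^(2^j))‖`
  have hnc_pow : ∀ j : ℕ, x ^ (2 ^ j) ∉ Subgroup.center G := by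
    intro j h
    exact hnc (mem_of_pow_mem_of_coprime (Nat.Coprime.pow_left j (Nat.coprime_two_left.mpr hx)) h)
  set c : ℕ → ℝ := fun j => ‖S.ζ (u * x ^ (2 ^ j))‖ with hc
  have hcrec : ∀ j, c j ^ 2 = q * c (j + 1) := by
    intro j
    have := hkey (2 ^ j) (hnc_pow j)
    rw [← pow_mul, ← pow_succ] at this
    exact this
  set b : ℕ → ℝ := fun j => c j / q with hb
  have hbrec : ∀ j, b (j + 1) = b j ^ 2 := by
    intro j
    simp only [hb]
    rw [div_pow, hcrec j]
    field_simp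
  have hbpow : ∀ j, b j = b 0 ^ (2 ^ j) := by
    intro j
    induction j with
    | zero => simp
    | succ j ih => rw [hbrec, ih, ← pow_mul, ← pow_succ]
  have hb0 : 0 ≤ b 0 := div_nonneg (norm_nonneg _) hq0.le
  -- periodicity
  have hper : x ^ (2 ^ (Nat.totient n)) = x := by
    have h1 : 2 ^ (Nat.totient n) ≡ 1 [MOD n] := Nat.ModEq.pow_totient (Nat.coprime_two_left.mpr hx)
    have h2 : x ^ (2 ^ (Nat.totient n)) = x ^ 1 := pow_eq_pow_iff_modEq.mpr h1
    rw [h2, pow_one]
  have hm1 : 1 ≤ Nat.totient n := Nat.totient_pos.mpr hnpos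
  have hbper : b (Nat.totient n) = b 0 := by
    simp only [hb, hc]
    rw [hper, pow_zero, pow_one]
  have hb01 : b 0 = 0 ∨ b 0 = 1 := by
    apply eq_zero_or_one_of_pow_eq hb0 hm1
    rw [← hbpow, hbper]
  have hc0 : c 0 = ‖S.ζ (u * x)‖ := by simp only [hc]; rw [pow_zero, pow_one]
  have hc1 : c 1 = ‖S.ζ (u * x ^ 2)‖ := by simp only [hc]; rw [pow_one]
  rcases hb01 with h0 | h1
  · -- `b 0 = 0`
    have : c 0 = 0 := by
      have := h0
      simp only [hb] at this
      rcases div_eq_zero_iff.mp this with h | h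
      · exact h
      · exact absurd h hq0.ne'
    rw [hc0] at this
    exact norm_eq_zero.mp this
  · -- `b 0 = 1` is impossible
    exfalso
    have hcq0 : ‖S.ζ (u * x)‖ = q := by
      rw [← hc0]
      have := h1
      simp only [hb] at this
      rw [div_eq_one_iff_eq hq0.ne'] at this
      exact this
    have hcq1 : ‖S.ζ (u * x ^ 2)‖ = q := by
      rw [← hc1]
      have hb1 : b 1 = 1 := by rw [hbrec, h1, one_pow]
      simp only [hb] at hb1
      rw [div_eq_one_iff_eq hq0.ne'] at hb1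
      exact hb1
    -- the counting
    set I : ℕ → ℝ := fun a => if x ^ a ∈ Subgroup.center G then 1 else 0 with hI
    have hI0 : ∀ a, 0 ≤ I a := by
      intro a; simp only [hI]; split_ifs <;> norm_num
    have hIper : ∀ a, I (a + n) = I a := by
      intro a; simp only [hI]; rw [pow_add, hxn, mul_one]
    set Gf : ℕ → ℝ := fun a => ‖S.ζ (u * x ^ a)‖ ^ 2 with hGf
    have hGper : ∀ a, Gf (a + n) = Gf a := by
      intro a; simp only [hGf]; rw [pow_add, hxn, mul_one]
    have hζ1 : ‖S.ζ 1‖ = (p : ℝ) - 2 := by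
      rw [S.hdeg]
      have : ((p : ℂ) - 2) = (((p : ℝ) - 2 : ℝ) : ℂ) := by push_cast; ring
      rw [this, Complex.norm_real, Real.norm_of_nonneg (by linarith)]
    have hζu : ‖S.ζ u‖ = 1 := by rw [hinv u hu, norm_neg, norm_one]
    -- right hand side
    have hH : ∀ a, ‖S.ζ (x ^ a)‖ ^ 2 = ((p : ℝ) - 2) ^ 2 * I a := by
      intro a
      simp only [hI]
      split_ifs with h
      · have := hcm _ h 1
        rw [one_mul] at this
        rw [this, hζ1, mul_one]
      · rw [hzero a h, norm_zero]; ring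
    -- left hand side
    have hxZ1 : ∀ a, x ^ a ∈ Subgroup.center G → x ^ (a + 1) ∈ Subgroup.center G → False := by
      intro a h0 h1
      apply hnc
      have : x = (x ^ a)⁻¹ * x ^ (a + 1) := by rw [pow_succ, inv_mul_cancel_left]
      rw [this]
      exact (Subgroup.center G).mul_mem ((Subgroup.center G).inv_mem h0) h1
    have hxZ2 : ∀ a, x ^ a ∈ Subgroup.center G → x ^ (a + 2) ∈ Subgroup.center G → False := by
      intro a h0 h2
      apply hnc
      apply hcop2 x hx
      have : x ^ 2 = (x ^ a)⁻¹ * x ^ (a + 2) := by rw [pow_add, inv_mul_cancel_left]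
      rw [this]
      exact (Subgroup.center G).mul_mem ((Subgroup.center G).inv_mem h0) h2
    have hG : ∀ a, I (a + 2) + q ^ 2 * I (a + 1) + q ^ 2 * I a ≤ Gf (a + 2) := by
      intro a
      have hGnn : 0 ≤ Gf (a + 2) := by simp only [hGf]; positivity
      by_cases h2 : x ^ (a + 2) ∈ Subgroup.center G
      · have h1 : x ^ (a + 1) ∉ Subgroup.center G := fun h => hxZ1 (a + 1) h h2
        have h0 : x ^ a ∉ Subgroup.center G := fun h => hxZ2 a h h2
        have hval : Gf (a + 2) = 1 := by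
          simp only [hGf]
          rw [hcm _ h2 u, hζu, one_pow]
        simp only [hI, if_pos h2, if_neg h1, if_neg h0]
        rw [hval]; simp
      · by_cases h1 : x ^ (a + 1) ∈ Subgroup.center G
        · have h0 : x ^ a ∉ Subgroup.center G := fun h => hxZ1 a h h1
          have hval : Gf (a + 2) = q ^ 2 := by
            simp only [hGf]
            have : u * x ^ (a + 2) = (u * x) * x ^ (a + 1) := by
              rw [mul_assoc, ← pow_succ']
            rw [this, hcm _ h1 (u * x), hcq0]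
          simp only [hI, if_neg h2, if_pos h1, if_neg h0]
          rw [hval]; simp
        · by_cases h0 : x ^ a ∈ Subgroup.center G
          · have hval : Gf (a + 2) = q ^ 2 := by
              simp only [hGf]
              have : u * x ^ (a + 2) = (u * x ^ 2) * x ^ a := by
                rw [mul_assoc, ← pow_add, add_comm]
              rw [this, hcm _ h0 (u * x ^ 2), hcq1]
            simp only [hI, if_neg h2, if_neg h1, if_pos h0]
            rw [hval]; simp
          · simp only [hI, if_neg h2, if_neg h1, if_neg h0]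
            simpa using hGnn
    -- sums
    have hsum1 : ∑ a ∈ Finset.range n, Gf (a + 2) = ∑ a ∈ Finset.range n, Gf a := by
      have e1 := sum_range_shift (fun a => Gf (a + 1)) n (fun a => by
        show Gf (a + n + 1) = Gf (a + 1)
        rw [add_right_comm]; exact hGper (a + 1))
      have e2 := sum_range_shift Gf n hGper
      simp only [add_assoc] at e1
      rw [← e2, ← e1]
    have hsumI1 : ∑ a ∈ Finset.range n, I (a + 1) = ∑ a ∈ Finset.range n, I a :=
      sum_range_shift I n hIper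
    have hsumI2 : ∑ a ∈ Finset.range n, I (a + 2) = ∑ a ∈ Finset.range n, I a := by
      have e1 := sum_range_shift (fun a => I (a + 1)) n (fun a => by
        show I (a + n + 1) = I (a + 1)
        rw [add_right_comm]; exact hIper (a + 1))
      simp only [add_assoc] at e1
      rw [← hsumI1, ← e1]
    set d : ℝ := ∑ a ∈ Finset.range n, I a with hd
    have hd1 : 1 ≤ d := by
      have h0mem : 0 ∈ Finset.range n := Finset.mem_range.mpr hnpos
      have : I 0 ≤ d := Finset.single_le_sum (fun a _ => hI0 a) h0mem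
      have hI00 : I 0 = 1 := by
        simp only [hI]; rw [pow_zero, if_pos (Subgroup.one_mem _)]
      linarith
    have hL : d + q ^ 2 * d + q ^ 2 * d ≤ ∑ a ∈ Finset.range n, Gf a := by
      rw [← hsum1]
      calc d + q ^ 2 * d + q ^ 2 * d
          = ∑ a ∈ Finset.range n, (I (a + 2) + q ^ 2 * I (a + 1) + q ^ 2 * I a) := by
            rw [Finset.sum_add_distrib, Finset.sum_add_distrib, ← Finset.mul_sum, ← Finset.mul_sum,
              hsumI2, hsumI1]
        _ ≤ ∑ a ∈ Finset.range n, Gf (a + 2) := Finset.sum_le_sum (fun a _ => hG a)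
    have hRhs : ∑ a ∈ Finset.range n, ‖S.ζ (x ^ a)‖ ^ 2 = ((p : ℝ) - 2) ^ 2 * d := by
      rw [hd, Finset.mul_sum]
      exact Finset.sum_congr rfl (fun a _ => hH a)
    have hmain := halt u x hu2 hux n hx hxn
    rw [hRhs] at hmain
    have hfin : d * ((1 + 2 * q ^ 2) - ((p : ℝ) - 2) ^ 2) ≤ 0 := by
      have : d + q ^ 2 * d + q ^ 2 * d ≤ ((p : ℝ) - 2) ^ 2 * d := le_trans hL hmain
      nlinarith
    have hpos : 0 < (1 + 2 * q ^ 2) - ((p : ℝ) - 2) ^ 2 := by
      have : (1 + 2 * q ^ 2) - ((p : ℝ) - 2) ^ 2 = ((p : ℝ) - 3) * ((p : ℝ) - 5) := by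
        rw [hq]; ring
      rw [this]
      apply mul_pos <;> linarith
    have : 0 < d * ((1 + 2 * q ^ 2) - ((p : ℝ) - 2) ^ 2) := mul_pos (by linarith) hpos
    linarith

end Cfsg.Agent.Lib.Helper49.S4705
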