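/-
helper49 library (S4705, module [VALMIX]): `val_mix`, exact sheet statement (core in `ValMixCore.lean`, inputs [CENTMUL] of
helper87 and [ALTSUM2] of helper47).
-/
import Mathlib
import Cfsg.Prelude.Def_Characters
import Cfsg.Prelude.Def_Blocks
import Cfsg.Agent.Lib.Helper17.PM2.Defs
import Cfsg.Agent.Lib.Helper47.S4705.AltSum
import Cfsg.Agent.Lib.Helper87.S4705.CentMul
import Cfsg.Agent.Lib.Helper49.S4705.ValMixCore

set_option autoImplicit false

open Cfsg Cfsg.Agent.Lib.Helper17.PM2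
open scoped ComplexConjugate

universe u

namespace Cfsg.Agent.Lib.Helper49.S4705

variable {G : Type u} [Group G] [Fintype G] {p : ℕ} (S : Setting G p)

theorem val_mix
    (hR : ∀ g : G, ¬ p ∣ orderOf g → S.ζ g ^ 2 - S.ζ (g ^ 2) = ((p : ℂ) - 3) * S.ζ (g ^ S.k))
    (hinv : ∀ t : G, orderOf t = 2 → S.ζ t = -1)
    (hvalodd : ∀ g : G, Odd (orderOf g) → ¬ p ∣ orderOf g → g ∉ Subgroup.center G → S.ζ g = 0)
    (u x : G) (hu : orderOf u = 2) (hx : Odd (orderOf x)) (hux : Commute u x)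
    (hreg : ¬ p ∣ orderOf x) (hnc : x ∉ Subgroup.center G) : S.ζ (u * x) = 0 := by
  have hχ : IsCharacter G S.ζ := by
    obtain ⟨n, ρ, _, h⟩ := S.hζ
    exact ⟨n, ρ, h⟩
  apply val_mix_of S ?_ ?_ hR hinv hvalodd u x hu hx hux hreg hnc
  · intro z hz g
    obtain ⟨h1, h2⟩ := Cfsg.Agent.Lib.Helper87.S4705.irr_mul_center S.hζ hz g
    rw [h1, norm_mul, h2, one_mul]
  · intro u x hu hux n hn hxn
    exact Cfsg.Agent.Lib.Helper47.S4705.alt_sum_le hχ u x hu hux n hn hxn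

end Cfsg.Agent.Lib.Helper49.S4705
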